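import Mathlib

/-! Kolchin: unipotent groups of operators have a fixed vector. -/

set_option autoImplicit false
universe u v w

noncomputable section

namespace Groth.Agent.Kolchin

variable {K : Type u} [Field K] [IsAlgClosed K] {Γ : Type v} [Monoid Γ]
variable {V : Type w} [AddCommGroup V] [Module K V] [FiniteDimensional K V]

theorem eq_one_of_dense {W : Type w} [AddCommGroup W] [Module K W] [FiniteDimensional K W]
    (σ : Γ →* Module.End K W) (hnil : ∀ g, IsNilpotent (σ g - 1))
    (hd : ∀ T : Module.End K W, ∃ a : MonoidAlgebra K Γ, MonoidAlgebra.lift K (Module.End K W) Γ σ a = T)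
    (g : Γ) : σ g = 1 := by
  refine LinearMap.ext fun x => ?_
  rw [Module.End.one_apply]
  refine sub_eq_zero.mp ((Module.forall_dual_apply_eq_zero_iff K _).mp fun φ => ?_)
  have htr : ∀ a : MonoidAlgebra K Γ,
      LinearMap.trace K W ((σ g - 1) * MonoidAlgebra.lift K (Module.End K W) Γ σ a) = 0 := by
    intro a
    induction a using MonoidAlgebra.induction_on with
    | add x y hx hy => rw [map_add, mul_add, map_add, hx, hy, add_zero]
    | smul c x hx => rw [map_smul, mul_smul_comm, map_smul, hx, smul_zero]
    | of h =>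
      rw [MonoidAlgebra.lift_of, sub_mul, one_mul, ← map_mul,
        ← sub_sub_sub_cancel_right (σ (g * h)) (σ h) 1, map_sub,
        (LinearMap.isNilpotent_trace_of_isNilpotent (hnil (g * h))).eq_zero,
        (LinearMap.isNilpotent_trace_of_isNilpotent (hnil h)).eq_zero, sub_zero]
  obtain ⟨a, ha⟩ := hd (φ.smulRight x)
  have h := htr a
  rw [ha] at h
  rw [show (σ g - 1) * φ.smulRight x = φ.smulRight (σ g x - x) from LinearMap.ext fun y => by simp [smul_sub],
    LinearMap.trace_smulRight] at h
  exact h

theorem exists_fixed_algClosed [Nontrivial V] (ρ : Γ →* Module.End K V) (hρ : ∀ g, IsNilpotent (ρ g - 1)) :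
    ∃ v : V, v ≠ 0 ∧ ∀ g, ρ g v = v := by
  classical
  let lft : MonoidAlgebra K Γ →ₐ[K] Module.End K V := MonoidAlgebra.lift K (Module.End K V) Γ ρ
  letI instMod : Module (MonoidAlgebra K Γ) V := Module.compHom V lft.toRingHom
  have hsmul : ∀ (a : MonoidAlgebra K Γ) (v : V), a • v = lft a v := fun _ _ => rfl
  haveI : IsScalarTower K (MonoidAlgebra K Γ) V := ⟨fun c a v => by rw [hsmul, hsmul, map_smul, LinearMap.smul_apply]⟩
  haveI : SMulCommClass (MonoidAlgebra K Γ) K V := ⟨fun a c v => by rw [hsmul, hsmul, map_smul]⟩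
  haveI : SMulCommClass K (MonoidAlgebra K Γ) V := SMulCommClass.symm _ _ _
  haveI : IsArtinian (MonoidAlgebra K Γ) V := isArtinian_of_tower K inferInstance
  obtain ⟨W, hW, -⟩ := (IsAtomic.eq_bot_or_exists_atom_le (⊤ : Submodule (MonoidAlgebra K Γ) V)).resolve_left top_ne_bot
  haveI : IsSimpleModule (MonoidAlgebra K Γ) W := isSimpleModule_iff_isAtom.mpr hW
  let Wk : Submodule K V := W.restrictScalars K
  haveI : Module.Finite K W :=
    Module.Finite.of_injective ((W.subtype).restrictScalars K) Subtype.val_injective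
  haveI : Module.Free K W := Module.Free.of_divisionRing K W
  let τ : (MonoidAlgebra K Γ) →ₐ[K] Module.End K W := Algebra.lsmul K K W
  -- the endomorphisms of the simple submodule are scalars
  have hend : ∀ α : Module.End (MonoidAlgebra K Γ) W, ∃ c : K, ∀ x, α x = c • x := by
    intro α
    haveI : Nontrivial W := IsSimpleModule.nontrivial (MonoidAlgebra K Γ) W
    obtain ⟨c, hc⟩ := Module.End.exists_eigenvalue (K := K) (V := W) (α.restrictScalars K)
    refine ⟨c, fun x => ?_⟩
    let N : Submodule (MonoidAlgebra K Γ) W := LinearMap.ker (α - c • LinearMap.id)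
    have hN : N ≠ ⊥ := by
      obtain ⟨y, hy, hy0⟩ := hc.exists_hasEigenvector
      intro h
      refine hy0 ?_
      have hyN : y ∈ N := by
        rw [Module.End.mem_eigenspace_iff] at hy
        simpa [N, sub_eq_zero] using hy
      rwa [h, Submodule.mem_bot] at hyN
    have hx : x ∈ N := by rw [(eq_bot_or_eq_top N).resolve_left hN]; trivial
    simpa [N, sub_eq_zero] using hx
  have hdense : ∀ T : Module.End K W, ∃ a : (MonoidAlgebra K Γ), τ a = T := by
    intro T
    let F : Module.End (Module.End (MonoidAlgebra K Γ) W) W :=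
      { toFun := T, map_add' := map_add T, map_smul' := fun α x => by
          obtain ⟨c, hc⟩ := hend α
          simp only [Module.End.smul_def, RingHom.id_apply, hc, map_smul] }
    let b := Module.finBasis K W
    haveI : IsSemisimpleModule (MonoidAlgebra K Γ) W := @instIsSemisimpleModuleOfIsSimpleModule _ _ _ _ _ inferInstance
    obtain ⟨r, hr⟩ := jacobson_density F (Finset.univ.image b)
    exact ⟨r, b.ext fun i => (hr (b i) (Finset.mem_image_of_mem _ (Finset.mem_univ i))).symm⟩
  let σ : Γ →* Module.End K W := τ.toMonoidHom.comp (MonoidAlgebra.of K Γ)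
  have hσV : ∀ (g : Γ) (x : W), ((σ g x : W) : V) = ρ g (x : V) := fun g x => by
    change lft (MonoidAlgebra.of K Γ g) (x : V) = _
    rw [MonoidAlgebra.lift_of]
  have hσnil : ∀ g, IsNilpotent (σ g - 1) := by
    intro g
    obtain ⟨n, hn⟩ := hρ g
    refine ⟨n, LinearMap.ext fun x => Subtype.ext ?_⟩
    have key : ∀ (m : ℕ) (y : W), ((((σ g - 1) ^ m) y : W) : V) = ((ρ g - 1) ^ m) (y : V) := by
      intro m
      induction m with
      | zero => intro y; simp
      | succ m ih =>
        intro y
        rw [pow_succ', pow_succ', Module.End.mul_apply, Module.End.mul_apply, LinearMap.sub_apply,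
          LinearMap.sub_apply, Module.End.one_apply, Module.End.one_apply]
        rw [← ih]
        exact congrArg (· - _) (hσV g _)
    rw [key, hn]
    simp
  have hσsurj : ∀ T : Module.End K W, ∃ a : MonoidAlgebra K Γ, MonoidAlgebra.lift K (Module.End K W) Γ σ a = T := by
    intro T
    obtain ⟨a, ha⟩ := hdense T
    refine ⟨a, ?_⟩
    rw [← ha]
    exact AlgHom.congr_fun ((MonoidAlgebra.lift K (Module.End K W) Γ).apply_symm_apply τ) a
  have hone := eq_one_of_dense σ hσnil hσsurj
  obtain ⟨v, hv, hv0⟩ := W.exists_mem_ne_zero_of_ne_bot hW.1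
  refine ⟨v, hv0, fun g => ?_⟩
  rw [show v = ((⟨v, hv⟩ : W) : V) from rfl, ← hσV, hone g]
  rfl

open TensorProduct in
/-- Kolchin's theorem over any field. -/
theorem exists_fixed {k : Type u} [Field k] {W : Type w} [AddCommGroup W] [Module k W] [FiniteDimensional k W]
    [Nontrivial W] (ρ : Γ →* Module.End k W) (hρ : ∀ g, IsNilpotent (ρ g - 1)) :
    ∃ v : W, v ≠ 0 ∧ ∀ g, ρ g v = v := by
  classical
  by_contra hno
  push Not at hno
  -- finitely many elements already have no common fixed vector
  let F : Finset Γ → Submodule k W := fun s => s.inf fun g => LinearMap.ker (ρ g - 1)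
  obtain ⟨_, ⟨s, rfl⟩, hmin⟩ := (wellFounded_lt (α := Submodule k W)).has_min (Set.range F) ⟨_, ∅, rfl⟩
  have hF : F s = ⊥ := by
    refine eq_bot_iff.mpr fun v hv => ?_
    by_contra hv0
    obtain ⟨g, hg⟩ := hno v hv0
    have hle : F (insert g s) ≤ F s := Finset.inf_mono (Finset.subset_insert g s)
    have heq : F (insert g s) = F s := by
      by_contra hne
      exact hmin _ ⟨insert g s, rfl⟩ (lt_of_le_of_ne hle hne)
    rw [← heq] at hv
    have : v ∈ LinearMap.ker (ρ g - 1) := (Finset.inf_le (f := fun g => LinearMap.ker (ρ g - 1)) (Finset.mem_insert_self g s)) hv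
    exact hg (by simpa [sub_eq_zero] using this)
  let L : W →ₗ[k] (s → W) := LinearMap.pi fun g => ρ g.1 - 1
  have hL : Function.Injective L := by
    refine LinearMap.ker_eq_bot.mp (eq_bot_iff.mpr fun v hv => ?_)
    rw [← hF]
    refine (Submodule.mem_finsetInf).mpr fun g hg => ?_
    exact congrFun hv ⟨g, hg⟩
  let K' := AlgebraicClosure k
  let ρK : Γ →* Module.End K' (K' ⊗[k] W) :=
    (Module.End.baseChangeHom k K' W).toMonoidHom.comp ρ
  have hρK : ∀ g, IsNilpotent (ρK g - 1) := fun g => by
    have h := (hρ g).map (Module.End.baseChangeHom k K' W)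
    rwa [map_sub, map_one] at h
  obtain ⟨z, hz0, hz⟩ := exists_fixed_algClosed ρK hρK
  have hinj : Function.Injective (L.baseChange K') := Module.Flat.lTensor_preserves_injective_linearMap L hL
  refine hz0 (hinj ?_)
  rw [map_zero]
  apply (TensorProduct.piRight k K' K' fun _ : s => W).injective
  rw [map_zero]
  funext g
  have key : ∀ y : K' ⊗[k] W,
      TensorProduct.piRight k K' K' (fun _ : s => W) (L.baseChange K' y) g = ρK g.1 y - y := by
    intro y
    induction y with
    | zero => simp
    | add p q hp hq => simp only [map_add, Pi.add_apply, hp, hq]; abel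
    | tmul c w =>
      rw [LinearMap.baseChange_tmul, TensorProduct.piRight_apply, TensorProduct.piRightHom_tmul]
      simp only [L, LinearMap.pi_apply, LinearMap.sub_apply, Module.End.one_apply, TensorProduct.tmul_sub]
      rfl
  rw [key, hz, sub_self, Pi.zero_apply]

end Groth.Agent.Kolchin
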